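import Cfsg.Agent.Lib.KnownA.MathieuSchur
import Cfsg.Agent.Lib.InvChar.CosetCert

/-!
Exponent vectors modulo `m ≤ 16` packed in lanes of four bits.
-/

set_option autoImplicit false

namespace CfsgLib.KnownA.SchurCert

open CfsgLib.InvChar.Coset (force force_eq)

/-- Lanewise sum modulo `m`. -/
noncomputable def addNib (m n : ℕ) : ℕ → ℕ → ℕ :=
  Nat.rec (fun _ _ => 0)
    (fun _ ih a b => force a fun a => force b fun b => (a % 16 + b % 16) % m + 16 * ih (a / 16) (b / 16)) n

theorem addNib_succ (m n a b : ℕ) :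
    addNib m (n + 1) a b = (a % 16 + b % 16) % m + 16 * addNib m n (a / 16) (b / 16) := by
  simp [addNib, force_eq]

/-- Operations on lanes modulo `m`. -/
noncomputable def nibOps (m nt : ℕ) : Ops ℕ := ⟨0, addNib m nt, fun r => 16 ^ r, Nat.beq⟩

theorem lane_addNib {m : ℕ} (hm : 0 < m) (hm' : m ≤ 16) : ∀ (n r a b : ℕ), r < n →
    addNib m n a b / 16 ^ r % 16 = (a / 16 ^ r % 16 + b / 16 ^ r % 16) % m := by
  intro n
  induction n with
  | zero => intro r a b h; omega
  | succ n ih =>
    intro r a b h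
    rw [addNib_succ]
    have hlt : (a % 16 + b % 16) % m < 16 := lt_of_lt_of_le (Nat.mod_lt _ hm) hm'
    rcases r with _ | r
    · simp only [pow_zero, Nat.div_one]
      omega
    · rw [pow_succ', ← Nat.div_div_eq_div_mul, ← Nat.div_div_eq_div_mul, ← Nat.div_div_eq_div_mul,
        show ((a % 16 + b % 16) % m + 16 * addNib m n (a / 16) (b / 16)) / 16 =
          addNib m n (a / 16) (b / 16) by omega]
      exact ih r _ _ (by omega)

/-- Lanes evaluate homomorphically in exponent `m`. -/
noncomputable def nibEv {K : Type*} [CommGroup K] {m : ℕ} (hm : 0 < m) (hm' : m ≤ 16) (nt : ℕ)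
    (τ : ℕ → K) (h : ∀ x : K, x ^ m = 1) : Ev (nibOps m nt) nt τ where
  ev a := ∏ r ∈ Finset.range nt, τ r ^ (a / 16 ^ r % 16)
  ev_zero := by simp [nibOps]
  ev_add a b := by
    rw [← Finset.prod_mul_distrib]
    refine Finset.prod_congr rfl fun r hr => ?_
    show τ r ^ (addNib m nt a b / 16 ^ r % 16) = _
    rw [lane_addNib hm hm' nt r a b (Finset.mem_range.1 hr), ← pow_eq_pow_mod _ (h (τ r)), pow_add]
  ev_unit r hr := by
    show ∏ i ∈ Finset.range nt, τ i ^ (16 ^ r / 16 ^ i % 16) = τ r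
    rw [Finset.prod_eq_single r]
    · simp [Nat.div_self (pow_pos (by norm_num : (0 : ℕ) < 16) r)]
    · intro i _ hi
      rcases Nat.lt_or_ge i r with hir | hir
      · rw [Nat.pow_div hir.le (by norm_num)]
        obtain ⟨k, hk⟩ : ∃ k, r - i = k + 1 := ⟨r - i - 1, by omega⟩
        simp [hk, pow_succ]
      · rw [Nat.div_eq_of_lt (Nat.pow_lt_pow_right (by norm_num) (by omega))]
        simp
    · intro h'; exact absurd (Finset.mem_range.2 hr) h'
  ev_mem W h' a := prod_mem fun r hr => pow_mem (h' r (Finset.mem_range.1 hr)) _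
  beq_eq a b hab := by rw [Nat.eq_of_beq_eq_true hab]

end CfsgLib.KnownA.SchurCert
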